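import Mathlib
import Cfsg.Agent.TcData.SF22c3.Rep0

set_option autoImplicit false
set_option Elab.async false
set_option maxRecDepth 100000
set_option linter.all false

namespace Cfsg.Agent.TcData.SF22c3

open Cfsg.Spor Cfsg.Agent.Lib.TcFacts Cfsg.Agent.Lib.TcBits Cfsg.Agent.Lib.TcPres Cfsg.Spor.Fi22 Cfsg.Agent.Lib.SchurDefs3

theorem c_a_a : ∀ j, j < 18 → chkW ((FreeGroup.of Gen.a * FreeGroup.of Gen.a) ^ coxLabel edges Gen.a Gen.a) j = true := by decide +kernel

theorem c_a_b : ∀ j, j < 18 → chkW ((FreeGroup.of Gen.a * FreeGroup.of Gen.b) ^ coxLabel edges Gen.a Gen.b) j = true := by decide +kernel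

theorem c_a_c : ∀ j, j < 18 → chkW ((FreeGroup.of Gen.a * FreeGroup.of Gen.c) ^ coxLabel edges Gen.a Gen.c) j = true := by decide +kernel

theorem c_a_d : ∀ j, j < 18 → chkW ((FreeGroup.of Gen.a * FreeGroup.of Gen.d) ^ coxLabel edges Gen.a Gen.d) j = true := by decide +kernel

theorem c_a_e : ∀ j, j < 18 → chkW ((FreeGroup.of Gen.a * FreeGroup.of Gen.e) ^ coxLabel edges Gen.a Gen.e) j = true := by decide +kernel

theorem c_a_f : ∀ j, j < 18 → chkW ((FreeGroup.of Gen.a * FreeGroup.of Gen.f) ^ coxLabel edges Gen.a Gen.f) j = true := by decide +kernel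

theorem c_a_g : ∀ j, j < 18 → chkW ((FreeGroup.of Gen.a * FreeGroup.of Gen.g) ^ coxLabel edges Gen.a Gen.g) j = true := by decide +kernel

theorem c_a_h : ∀ j, j < 18 → chkW ((FreeGroup.of Gen.a * FreeGroup.of Gen.h) ^ coxLabel edges Gen.a Gen.h) j = true := by decide +kernel

theorem c_a_i : ∀ j, j < 18 → chkW ((FreeGroup.of Gen.a * FreeGroup.of Gen.i) ^ coxLabel edges Gen.a Gen.i) j = true := by decide +kernel

theorem c_b_a : ∀ j, j < 18 → chkW ((FreeGroup.of Gen.b * FreeGroup.of Gen.a) ^ coxLabel edges Gen.b Gen.a) j = true := by decide +kernel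

theorem c_b_b : ∀ j, j < 18 → chkW ((FreeGroup.of Gen.b * FreeGroup.of Gen.b) ^ coxLabel edges Gen.b Gen.b) j = true := by decide +kernel

theorem c_b_c : ∀ j, j < 18 → chkW ((FreeGroup.of Gen.b * FreeGroup.of Gen.c) ^ coxLabel edges Gen.b Gen.c) j = true := by decide +kernel

theorem c_b_d : ∀ j, j < 18 → chkW ((FreeGroup.of Gen.b * FreeGroup.of Gen.d) ^ coxLabel edges Gen.b Gen.d) j = true := by decide +kernel

theorem c_b_e : ∀ j, j < 18 → chkW ((FreeGroup.of Gen.b * FreeGroup.of Gen.e) ^ coxLabel edges Gen.b Gen.e) j = true := by decide +kernel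

theorem c_b_f : ∀ j, j < 18 → chkW ((FreeGroup.of Gen.b * FreeGroup.of Gen.f) ^ coxLabel edges Gen.b Gen.f) j = true := by decide +kernel

theorem c_b_g : ∀ j, j < 18 → chkW ((FreeGroup.of Gen.b * FreeGroup.of Gen.g) ^ coxLabel edges Gen.b Gen.g) j = true := by decide +kernel

theorem c_b_h : ∀ j, j < 18 → chkW ((FreeGroup.of Gen.b * FreeGroup.of Gen.h) ^ coxLabel edges Gen.b Gen.h) j = true := by decide +kernel

theorem c_b_i : ∀ j, j < 18 → chkW ((FreeGroup.of Gen.b * FreeGroup.of Gen.i) ^ coxLabel edges Gen.b Gen.i) j = true := by decide +kernel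

theorem c_c_a : ∀ j, j < 18 → chkW ((FreeGroup.of Gen.c * FreeGroup.of Gen.a) ^ coxLabel edges Gen.c Gen.a) j = true := by decide +kernel

theorem c_c_b : ∀ j, j < 18 → chkW ((FreeGroup.of Gen.c * FreeGroup.of Gen.b) ^ coxLabel edges Gen.c Gen.b) j = true := by decide +kernel

theorem c_c_c : ∀ j, j < 18 → chkW ((FreeGroup.of Gen.c * FreeGroup.of Gen.c) ^ coxLabel edges Gen.c Gen.c) j = true := by decide +kernel

theorem c_c_d : ∀ j, j < 18 → chkW ((FreeGroup.of Gen.c * FreeGroup.of Gen.d) ^ coxLabel edges Gen.c Gen.d) j = true := by decide +kernel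

theorem c_c_e : ∀ j, j < 18 → chkW ((FreeGroup.of Gen.c * FreeGroup.of Gen.e) ^ coxLabel edges Gen.c Gen.e) j = true := by decide +kernel

theorem c_c_f : ∀ j, j < 18 → chkW ((FreeGroup.of Gen.c * FreeGroup.of Gen.f) ^ coxLabel edges Gen.c Gen.f) j = true := by decide +kernel

theorem c_c_g : ∀ j, j < 18 → chkW ((FreeGroup.of Gen.c * FreeGroup.of Gen.g) ^ coxLabel edges Gen.c Gen.g) j = true := by decide +kernel

theorem c_c_h : ∀ j, j < 18 → chkW ((FreeGroup.of Gen.c * FreeGroup.of Gen.h) ^ coxLabel edges Gen.c Gen.h) j = true := by decide +kernel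

theorem c_c_i : ∀ j, j < 18 → chkW ((FreeGroup.of Gen.c * FreeGroup.of Gen.i) ^ coxLabel edges Gen.c Gen.i) j = true := by decide +kernel

theorem c_d_a : ∀ j, j < 18 → chkW ((FreeGroup.of Gen.d * FreeGroup.of Gen.a) ^ coxLabel edges Gen.d Gen.a) j = true := by decide +kernel

theorem c_d_b : ∀ j, j < 18 → chkW ((FreeGroup.of Gen.d * FreeGroup.of Gen.b) ^ coxLabel edges Gen.d Gen.b) j = true := by decide +kernel

theorem c_d_c : ∀ j, j < 18 → chkW ((FreeGroup.of Gen.d * FreeGroup.of Gen.c) ^ coxLabel edges Gen.d Gen.c) j = true := by decide +kernel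

theorem c_d_d : ∀ j, j < 18 → chkW ((FreeGroup.of Gen.d * FreeGroup.of Gen.d) ^ coxLabel edges Gen.d Gen.d) j = true := by decide +kernel

theorem c_d_e : ∀ j, j < 18 → chkW ((FreeGroup.of Gen.d * FreeGroup.of Gen.e) ^ coxLabel edges Gen.d Gen.e) j = true := by decide +kernel

theorem c_d_f : ∀ j, j < 18 → chkW ((FreeGroup.of Gen.d * FreeGroup.of Gen.f) ^ coxLabel edges Gen.d Gen.f) j = true := by decide +kernel

theorem c_d_g : ∀ j, j < 18 → chkW ((FreeGroup.of Gen.d * FreeGroup.of Gen.g) ^ coxLabel edges Gen.d Gen.g) j = true := by decide +kernel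

theorem c_d_h : ∀ j, j < 18 → chkW ((FreeGroup.of Gen.d * FreeGroup.of Gen.h) ^ coxLabel edges Gen.d Gen.h) j = true := by decide +kernel

theorem c_d_i : ∀ j, j < 18 → chkW ((FreeGroup.of Gen.d * FreeGroup.of Gen.i) ^ coxLabel edges Gen.d Gen.i) j = true := by decide +kernel

theorem c_e_a : ∀ j, j < 18 → chkW ((FreeGroup.of Gen.e * FreeGroup.of Gen.a) ^ coxLabel edges Gen.e Gen.a) j = true := by decide +kernel

theorem c_e_b : ∀ j, j < 18 → chkW ((FreeGroup.of Gen.e * FreeGroup.of Gen.b) ^ coxLabel edges Gen.e Gen.b) j = true := by decide +kernel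

theorem c_e_c : ∀ j, j < 18 → chkW ((FreeGroup.of Gen.e * FreeGroup.of Gen.c) ^ coxLabel edges Gen.e Gen.c) j = true := by decide +kernel

theorem c_e_d : ∀ j, j < 18 → chkW ((FreeGroup.of Gen.e * FreeGroup.of Gen.d) ^ coxLabel edges Gen.e Gen.d) j = true := by decide +kernel

theorem c_e_e : ∀ j, j < 18 → chkW ((FreeGroup.of Gen.e * FreeGroup.of Gen.e) ^ coxLabel edges Gen.e Gen.e) j = true := by decide +kernel

theorem c_e_f : ∀ j, j < 18 → chkW ((FreeGroup.of Gen.e * FreeGroup.of Gen.f) ^ coxLabel edges Gen.e Gen.f) j = true := by decide +kernel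

theorem c_e_g : ∀ j, j < 18 → chkW ((FreeGroup.of Gen.e * FreeGroup.of Gen.g) ^ coxLabel edges Gen.e Gen.g) j = true := by decide +kernel

theorem c_e_h : ∀ j, j < 18 → chkW ((FreeGroup.of Gen.e * FreeGroup.of Gen.h) ^ coxLabel edges Gen.e Gen.h) j = true := by decide +kernel

theorem c_e_i : ∀ j, j < 18 → chkW ((FreeGroup.of Gen.e * FreeGroup.of Gen.i) ^ coxLabel edges Gen.e Gen.i) j = true := by decide +kernel

theorem c_f_a : ∀ j, j < 18 → chkW ((FreeGroup.of Gen.f * FreeGroup.of Gen.a) ^ coxLabel edges Gen.f Gen.a) j = true := by decide +kernel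

theorem c_f_b : ∀ j, j < 18 → chkW ((FreeGroup.of Gen.f * FreeGroup.of Gen.b) ^ coxLabel edges Gen.f Gen.b) j = true := by decide +kernel

theorem c_f_c : ∀ j, j < 18 → chkW ((FreeGroup.of Gen.f * FreeGroup.of Gen.c) ^ coxLabel edges Gen.f Gen.c) j = true := by decide +kernel

theorem c_f_d : ∀ j, j < 18 → chkW ((FreeGroup.of Gen.f * FreeGroup.of Gen.d) ^ coxLabel edges Gen.f Gen.d) j = true := by decide +kernel

theorem c_f_e : ∀ j, j < 18 → chkW ((FreeGroup.of Gen.f * FreeGroup.of Gen.e) ^ coxLabel edges Gen.f Gen.e) j = true := by decide +kernel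

theorem c_f_f : ∀ j, j < 18 → chkW ((FreeGroup.of Gen.f * FreeGroup.of Gen.f) ^ coxLabel edges Gen.f Gen.f) j = true := by decide +kernel

theorem c_f_g : ∀ j, j < 18 → chkW ((FreeGroup.of Gen.f * FreeGroup.of Gen.g) ^ coxLabel edges Gen.f Gen.g) j = true := by decide +kernel

theorem c_f_h : ∀ j, j < 18 → chkW ((FreeGroup.of Gen.f * FreeGroup.of Gen.h) ^ coxLabel edges Gen.f Gen.h) j = true := by decide +kernel

theorem c_f_i : ∀ j, j < 18 → chkW ((FreeGroup.of Gen.f * FreeGroup.of Gen.i) ^ coxLabel edges Gen.f Gen.i) j = true := by decide +kernel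

theorem c_g_a : ∀ j, j < 18 → chkW ((FreeGroup.of Gen.g * FreeGroup.of Gen.a) ^ coxLabel edges Gen.g Gen.a) j = true := by decide +kernel

theorem c_g_b : ∀ j, j < 18 → chkW ((FreeGroup.of Gen.g * FreeGroup.of Gen.b) ^ coxLabel edges Gen.g Gen.b) j = true := by decide +kernel

theorem c_g_c : ∀ j, j < 18 → chkW ((FreeGroup.of Gen.g * FreeGroup.of Gen.c) ^ coxLabel edges Gen.g Gen.c) j = true := by decide +kernel

theorem c_g_d : ∀ j, j < 18 → chkW ((FreeGroup.of Gen.g * FreeGroup.of Gen.d) ^ coxLabel edges Gen.g Gen.d) j = true := by decide +kernel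

theorem c_g_e : ∀ j, j < 18 → chkW ((FreeGroup.of Gen.g * FreeGroup.of Gen.e) ^ coxLabel edges Gen.g Gen.e) j = true := by decide +kernel

theorem c_g_f : ∀ j, j < 18 → chkW ((FreeGroup.of Gen.g * FreeGroup.of Gen.f) ^ coxLabel edges Gen.g Gen.f) j = true := by decide +kernel

theorem c_g_g : ∀ j, j < 18 → chkW ((FreeGroup.of Gen.g * FreeGroup.of Gen.g) ^ coxLabel edges Gen.g Gen.g) j = true := by decide +kernel

theorem c_g_h : ∀ j, j < 18 → chkW ((FreeGroup.of Gen.g * FreeGroup.of Gen.h) ^ coxLabel edges Gen.g Gen.h) j = true := by decide +kernel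

theorem c_g_i : ∀ j, j < 18 → chkW ((FreeGroup.of Gen.g * FreeGroup.of Gen.i) ^ coxLabel edges Gen.g Gen.i) j = true := by decide +kernel

theorem c_h_a : ∀ j, j < 18 → chkW ((FreeGroup.of Gen.h * FreeGroup.of Gen.a) ^ coxLabel edges Gen.h Gen.a) j = true := by decide +kernel

theorem c_h_b : ∀ j, j < 18 → chkW ((FreeGroup.of Gen.h * FreeGroup.of Gen.b) ^ coxLabel edges Gen.h Gen.b) j = true := by decide +kernel

theorem c_h_c : ∀ j, j < 18 → chkW ((FreeGroup.of Gen.h * FreeGroup.of Gen.c) ^ coxLabel edges Gen.h Gen.c) j = true := by decide +kernel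

theorem c_h_d : ∀ j, j < 18 → chkW ((FreeGroup.of Gen.h * FreeGroup.of Gen.d) ^ coxLabel edges Gen.h Gen.d) j = true := by decide +kernel

theorem c_h_e : ∀ j, j < 18 → chkW ((FreeGroup.of Gen.h * FreeGroup.of Gen.e) ^ coxLabel edges Gen.h Gen.e) j = true := by decide +kernel

theorem c_h_f : ∀ j, j < 18 → chkW ((FreeGroup.of Gen.h * FreeGroup.of Gen.f) ^ coxLabel edges Gen.h Gen.f) j = true := by decide +kernel

theorem c_h_g : ∀ j, j < 18 → chkW ((FreeGroup.of Gen.h * FreeGroup.of Gen.g) ^ coxLabel edges Gen.h Gen.g) j = true := by decide +kernel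

theorem c_h_h : ∀ j, j < 18 → chkW ((FreeGroup.of Gen.h * FreeGroup.of Gen.h) ^ coxLabel edges Gen.h Gen.h) j = true := by decide +kernel

theorem c_h_i : ∀ j, j < 18 → chkW ((FreeGroup.of Gen.h * FreeGroup.of Gen.i) ^ coxLabel edges Gen.h Gen.i) j = true := by decide +kernel

theorem c_i_a : ∀ j, j < 18 → chkW ((FreeGroup.of Gen.i * FreeGroup.of Gen.a) ^ coxLabel edges Gen.i Gen.a) j = true := by decide +kernel

theorem c_i_b : ∀ j, j < 18 → chkW ((FreeGroup.of Gen.i * FreeGroup.of Gen.b) ^ coxLabel edges Gen.i Gen.b) j = true := by decide +kernel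

theorem c_i_c : ∀ j, j < 18 → chkW ((FreeGroup.of Gen.i * FreeGroup.of Gen.c) ^ coxLabel edges Gen.i Gen.c) j = true := by decide +kernel

theorem c_i_d : ∀ j, j < 18 → chkW ((FreeGroup.of Gen.i * FreeGroup.of Gen.d) ^ coxLabel edges Gen.i Gen.d) j = true := by decide +kernel

theorem c_i_e : ∀ j, j < 18 → chkW ((FreeGroup.of Gen.i * FreeGroup.of Gen.e) ^ coxLabel edges Gen.i Gen.e) j = true := by decide +kernel

theorem c_i_f : ∀ j, j < 18 → chkW ((FreeGroup.of Gen.i * FreeGroup.of Gen.f) ^ coxLabel edges Gen.i Gen.f) j = true := by decide +kernel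

theorem c_i_g : ∀ j, j < 18 → chkW ((FreeGroup.of Gen.i * FreeGroup.of Gen.g) ^ coxLabel edges Gen.i Gen.g) j = true := by decide +kernel

theorem c_i_h : ∀ j, j < 18 → chkW ((FreeGroup.of Gen.i * FreeGroup.of Gen.h) ^ coxLabel edges Gen.i Gen.h) j = true := by decide +kernel

theorem c_i_i : ∀ j, j < 18 → chkW ((FreeGroup.of Gen.i * FreeGroup.of Gen.i) ^ coxLabel edges Gen.i Gen.i) j = true := by decide +kernel

theorem e_0_s0 : chkW (extra3.getD 0 1) 0 = true := by decide +kernel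

theorem e_0_s1 : chkW (extra3.getD 0 1) 1 = true := by decide +kernel

theorem e_0_s2 : chkW (extra3.getD 0 1) 2 = true := by decide +kernel

theorem e_0_s3 : chkW (extra3.getD 0 1) 3 = true := by decide +kernel

theorem e_0_s4 : chkW (extra3.getD 0 1) 4 = true := by decide +kernel

theorem e_0_s5 : chkW (extra3.getD 0 1) 5 = true := by decide +kernel

theorem e_0_s6 : chkW (extra3.getD 0 1) 6 = true := by decide +kernel

theorem e_0_s7 : chkW (extra3.getD 0 1) 7 = true := by decide +kernel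

theorem e_0_s8 : chkW (extra3.getD 0 1) 8 = true := by decide +kernel

theorem e_0_s9 : chkW (extra3.getD 0 1) 9 = true := by decide +kernel

theorem e_0_s10 : chkW (extra3.getD 0 1) 10 = true := by decide +kernel

theorem e_0_s11 : chkW (extra3.getD 0 1) 11 = true := by decide +kernel

theorem e_0_s12 : chkW (extra3.getD 0 1) 12 = true := by decide +kernel

theorem e_0_s13 : chkW (extra3.getD 0 1) 13 = true := by decide +kernel

theorem e_0_s14 : chkW (extra3.getD 0 1) 14 = true := by decide +kernel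

theorem e_0_s15 : chkW (extra3.getD 0 1) 15 = true := by decide +kernel

end Cfsg.Agent.TcData.SF22c3
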